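import Mathlib
import Cfsg.Agent.Characters.Imprimitive
import Cfsg.Agent.Characters.Integrality
import Cfsg.Agent.Characters.Induction
import Cfsg.Agent.CharactersDeep.Clifford

/-!
# Itô's theorem on character degrees

The degree of an irreducible character divides the index of every abelian normal subgroup.
-/

set_option autoImplicit false

namespace CfsgLib.GaloisAverage

open CfsgLib.Characters

universe u v

theorem ito_aux (N : ℕ) : ∀ (G : Type u) [Group G] [Fintype G], Nat.card G ≤ N → ∀ {χ : G → ℂ},
    Cfsg.IsIrrCharacter G χ → ∀ (A : Subgroup G) [A.Normal], (∀ a ∈ A, ∀ b ∈ A, a * b = b * a) →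
      ∃ d : ℕ, χ 1 = d ∧ d ∣ A.index := by
  classical
  induction N with
  | zero => intro G _ _ h; exact absurd h (Nat.not_le.2 Nat.card_pos)
  | succ N ih =>
    intro G _ _ hcard χ hχ A _ hA
    obtain ⟨n, ρ, hρ, rfl⟩ := hχ
    by_cases hs : ∀ a ∈ A, ∃ c : ℂ, ρ a = c • LinearMap.id
    · exact ⟨_, Representation.char_one ρ, finrank_dvd_index ρ A hs⟩
    push Not at hs
    obtain ⟨T, ψ, hT, hAT, hψ, heq⟩ := exists_induced_of_abelian_normal ρ A hA hs
    have hχ := isIrrCharacter_character ρ
    have hcl := isClassFunction_of_isIrr hχ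
    -- an irreducible constituent of `ψ` lying under the character
    obtain ⟨m, hm⟩ := exists_nat_coeff hψ
    have h1 : Cfsg.classInner ψ (fun h : T => ρ.character h) = 1 := by
      rw [← classInner_indFun T ψ hcl, ← heq, classInner_isIrr_self hχ]
    rw [hm, classInner_sum_left] at h1
    obtain ⟨μ, -, hμ⟩ := Finset.exists_ne_zero_of_sum_ne_zero (h1.trans_ne one_ne_zero)
    rw [classInner_smul_left, mul_ne_zero_iff] at hμ
    obtain ⟨d, -, hd⟩ := exists_degree_pos μ.2
    obtain ⟨e, he⟩ := exists_degree hψ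
    have hde : d ≤ e := by
      have hm0 : m μ ≠ 0 := fun h => hμ.1 (by rw [h, Nat.cast_zero])
      choose f hf hf' using fun ν : Cfsg.IrrCharacter T => exists_degree_pos ν.2
      have he' : ∑ ν, m ν * f ν = e := by
        apply Nat.cast_injective (R := ℂ)
        rw [← he, hm, Finset.sum_apply]
        push_cast
        exact Finset.sum_congr rfl fun ν _ => by rw [Pi.smul_apply, smul_eq_mul, hf']
      have hfd : f μ = d := Nat.cast_injective (R := ℂ) ((hf' μ).symm.trans hd)
      calc d ≤ m μ * f μ := by rw [hfd]; exact Nat.le_mul_of_pos_left _ (Nat.pos_of_ne_zero hm0)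
        _ ≤ e := he' ▸ Finset.single_le_sum (f := fun ν => m ν * f ν) (fun _ _ => Nat.zero_le _)
            (Finset.mem_univ μ)
    have hF := CharactersDeep.Clifford.eq_of_constituent_of_degree_le
      (isCharacter_indFun T (isCharacter_of_isIrr μ.2)) hχ
      (by rw [classInner_indFun T _ hcl]; exact hμ.2) (a := T.index * d) (b := T.index * e)
      (by rw [indFun_one, hd, Nat.cast_mul])
      (by rw [heq, indFun_one, he, Nat.cast_mul]) (Nat.mul_le_mul_left _ hde)
    have hlt : Nat.card T < Nat.card G := by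
      refine lt_of_le_of_ne (Subgroup.card_le_card_group T) fun h => hT ?_
      exact Subgroup.eq_top_of_card_eq T h
    obtain ⟨d', hd', hdvd⟩ := ih T (by omega) μ.2 (A.subgroupOf T) fun a ha b hb => by
      exact Subtype.ext (hA _ (Subgroup.mem_subgroupOf.1 ha) _ (Subgroup.mem_subgroupOf.1 hb))
    refine ⟨T.index * d, by rw [← hF, indFun_one, hd, Nat.cast_mul], ?_⟩
    have hdd : d' = d := Nat.cast_injective (R := ℂ) (hd'.symm.trans hd)
    rw [hdd] at hdvd
    rw [← Subgroup.relIndex_mul_index hAT, mul_comm T.index]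
    exact Nat.mul_dvd_mul_right hdvd _

/-- **Itô's theorem**: the degree divides the index of an abelian normal subgroup. -/
theorem exists_degree_dvd_index {G : Type u} [Group G] [Finite G] {χ : G → ℂ}
    (hχ : Cfsg.IsIrrCharacter G χ) (A : Subgroup G) [A.Normal]
    (hA : ∀ a ∈ A, ∀ b ∈ A, a * b = b * a) : ∃ d : ℕ, χ 1 = d ∧ d ∣ A.index := by
  have := Fintype.ofFinite G
  exact ito_aux _ G le_rfl hχ A hA

/-- Itô's theorem for representations on arbitrary spaces. -/
theorem finrank_dvd_index_abelian {G : Type u} [Group G] [Finite G] {V : Type v} [AddCommGroup V]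
    [Module ℂ V] [FiniteDimensional ℂ V] (ρ : Representation ℂ G V) [ρ.IsIrreducible] (A : Subgroup G)
    [A.Normal] (hA : ∀ a ∈ A, ∀ b ∈ A, a * b = b * a) : Module.finrank ℂ V ∣ A.index := by
  obtain ⟨d, hd, hdvd⟩ := exists_degree_dvd_index (isIrrCharacter_character ρ) A hA
  rw [Representation.char_one, Nat.cast_inj] at hd
  rwa [hd]

end CfsgLib.GaloisAverage
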