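import Mathlib
import Cfsg.Agent.Characters.RepBasic

/-!
# Galois averaging of powers of absolute values

For an integer polynomial `P` which is nonzero at the primitive `n`-th roots of unity the sum of
`‖P μ‖²` over these roots is at least their number (the product is a nonzero integer, and the
arithmetic mean dominates the geometric one).  Consequences for character values:

* `totient_le_sum_char`: if `χ g ≠ 0` then the sum of `‖χ (g ^ k)‖²` over the `k < n` prime to `n`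
  is at least `φ n`, for `n` a multiple of the order of `g`;
* `card_le_sum_norm_pow_char`: on a set stable under coprime powers on which a character has no
  zero, the sum of `‖χ g‖ ^ e` is at least the size of the set.
-/

set_option autoImplicit false

namespace CfsgLib.GaloisAverage

open Polynomial

/-- If positive reals have product at least one, their sum is at least their number. -/
theorem card_le_sum_of_one_le_prod {ι : Type*} (s : Finset ι) (a : ι → ℝ) (hpos : ∀ i ∈ s, 0 < a i)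
    (h : 1 ≤ ∏ i ∈ s, a i) : (s.card : ℝ) ≤ ∑ i ∈ s, a i := by
  have h1 : 0 ≤ ∑ i ∈ s, Real.log (a i) := by
    rw [← Real.log_prod (fun i hi => (hpos i hi).ne')]
    exact Real.log_nonneg h
  have h2 : ∑ i ∈ s, Real.log (a i) ≤ ∑ i ∈ s, (a i - 1) :=
    Finset.sum_le_sum fun i hi => Real.log_le_sub_one_of_pos (hpos i hi)
  rw [Finset.sum_sub_distrib] at h2
  simp only [Finset.sum_const, nsmul_eq_mul, mul_one] at h2
  linarith

/-- A rational algebraic integer in `ℂ` is an integer. -/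
theorem exists_int_of_isIntegral_ratCast {q : ℚ} (h : IsIntegral ℤ (q : ℂ)) : ∃ z : ℤ, (q : ℂ) = z := by
  rw [show (q : ℂ) = algebraMap ℚ ℂ q from (eq_ratCast _ q).symm,
    isIntegral_algebraMap_iff (algebraMap ℚ ℂ).injective] at h
  obtain ⟨z, hz⟩ := IsIntegrallyClosed.isIntegral_iff.1 h
  exact ⟨z, by rw [← hz]; simp⟩

/-- Nonvanishing at one primitive root gives nonvanishing at all. -/
theorem aeval_ne_zero_of_primitive {n : ℕ} (hn : 0 < n) (P : ℤ[X]) {μ ν : ℂ}
    (hμ : IsPrimitiveRoot μ n) (hν : IsPrimitiveRoot ν n) (h : aeval μ P ≠ 0) :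
    aeval ν P ≠ 0 := by
  intro h0
  have hd : cyclotomic n ℤ ∣ P := by
    rw [cyclotomic_eq_minpoly hν hn]
    exact minpoly.isIntegrallyClosed_dvd (hν.isIntegral hn) h0
  obtain ⟨R, rfl⟩ := hd
  refine h ?_
  have : aeval μ (cyclotomic n ℤ) = 0 := by
    rw [cyclotomic_eq_minpoly hμ hn]; exact minpoly.aeval ℤ μ
  rw [map_mul, this, zero_mul]

/-- The sum of a power of the absolute values of a nonzero cyclotomic integer over its conjugates. -/
theorem totient_le_sum_norm_pow {n : ℕ} (hn : 0 < n) (P : ℤ[X]) (e : ℕ)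
    (h : ∃ μ : ℂ, IsPrimitiveRoot μ n ∧ aeval μ P ≠ 0) :
    (n.totient : ℝ) ≤ ∑ μ ∈ primitiveRoots n ℂ, ‖aeval μ P‖ ^ e := by
  classical
  obtain ⟨μ₀, hμ₀, hP⟩ := h
  have : NeZero n := ⟨hn.ne'⟩
  have hne : ∀ μ ∈ primitiveRoots n ℂ, aeval μ P ≠ 0 := fun μ hμ =>
    aeval_ne_zero_of_primitive hn P hμ₀ ((mem_primitiveRoots hn).1 hμ) hP
  have hint : IsIntegral ℤ (∏ μ ∈ primitiveRoots n ℂ, aeval μ P) :=
    IsIntegral.prod _ fun μ hμ => by
      have hi : IsIntegral ℤ μ := ((mem_primitiveRoots hn).1 hμ).isIntegral hn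
      rw [Polynomial.aeval_eq_sum_range]
      exact IsIntegral.sum _ fun i _ => by
        rw [zsmul_eq_mul]
        exact (isIntegral_algebraMap (x := P.coeff i)).mul (hi.pow i)
  have hrat : ∃ q : ℚ, ∏ μ ∈ primitiveRoots n ℂ, aeval μ P = (q : ℂ) := by
    let K := CyclotomicField n ℚ
    have : IsCyclotomicExtension {n} ℚ K := CyclotomicField.isCyclotomicExtension n ℚ
    have : FiniteDimensional ℚ K := IsCyclotomicExtension.finiteDimensional {n} ℚ K
    have hirr := Polynomial.cyclotomic.irreducible_rat hn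
    have hζ : IsPrimitiveRoot (IsCyclotomicExtension.zeta n ℚ K) n :=
      IsCyclotomicExtension.zeta_spec n ℚ K
    refine ⟨Algebra.norm ℚ (aeval (IsCyclotomicExtension.zeta n ℚ K) P), ?_⟩
    rw [← eq_ratCast (algebraMap ℚ ℂ), Algebra.norm_eq_prod_embeddings,
      ← Finset.prod_coe_sort (primitiveRoots n ℂ) (fun μ => aeval μ P)]
    refine (Fintype.prod_equiv (hζ.embeddingsEquivPrimitiveRoots ℂ hirr) _ _ fun σ => ?_).symm
    rw [hζ.embeddingsEquivPrimitiveRoots_apply_coe]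
    exact (aeval_algHom_apply (σ.restrictScalars ℤ) _ P).symm
  obtain ⟨q, hq⟩ := hrat
  obtain ⟨z, hz⟩ := exists_int_of_isIntegral_ratCast (hq ▸ hint)
  have hz0 : z ≠ 0 := fun h0 => by
    rw [h0, Int.cast_zero] at hz
    exact Finset.prod_ne_zero_iff.2 hne (hq.trans hz)
  have hcard : (primitiveRoots n ℂ).card = n.totient :=
    (Complex.isPrimitiveRoot_exp n hn.ne').card_primitiveRoots
  rw [← hcard]
  refine card_le_sum_of_one_le_prod _ _ (fun μ hμ => by have := norm_pos_iff.2 (hne μ hμ); positivity) ?_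
  rw [Finset.prod_pow, ← norm_prod, hq, hz, Complex.norm_intCast]
  have h1 : (1 : ℝ) ≤ |(z : ℝ)| := by exact_mod_cast Int.one_le_abs hz0
  exact one_le_pow₀ h1

/-- The exponents parametrising the primitive roots of unity. -/
def totatives (n : ℕ) : Finset ℕ := (Finset.range n).filter (Nat.Coprime n)

theorem mem_totatives {n k : ℕ} : k ∈ totatives n ↔ k < n ∧ Nat.Coprime k n := by
  simp [totatives, Nat.coprime_comm]

theorem card_totatives (n : ℕ) : (totatives n).card = n.totient := rfl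

/-- Version with exponents: `∑ ‖P (ζ ^ k)‖²` over the totatives. -/
theorem totient_le_sum_totatives {n : ℕ} (hn : 0 < n) {ζ : ℂ} (hζ : IsPrimitiveRoot ζ n) (P : ℤ[X])
    (e : ℕ) {k₀ : ℕ} (hk₀ : k₀.Coprime n) (h : aeval (ζ ^ k₀) P ≠ 0) :
    (n.totient : ℝ) ≤ ∑ k ∈ totatives n, ‖aeval (ζ ^ k) P‖ ^ e := by
  classical
  have : NeZero n := ⟨hn.ne'⟩
  refine (totient_le_sum_norm_pow hn P e ⟨_, hζ.pow_of_coprime k₀ hk₀, h⟩).trans_eq ?_
  refine (Finset.sum_bij (fun k _ => ζ ^ k) (fun k hk => ?_) (fun a ha b hb e => ?_)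
    (fun μ hμ => ?_) (fun _ _ => rfl)).symm
  · exact (mem_primitiveRoots hn).2 (hζ.pow_of_coprime k (mem_totatives.1 hk).2)
  · exact hζ.pow_inj (mem_totatives.1 ha).1 (mem_totatives.1 hb).1 e
  · obtain ⟨i, hi, rfl⟩ := hζ.eq_pow_of_pow_eq_one ((mem_primitiveRoots hn).1 hμ).pow_eq_one
    exact ⟨i, mem_totatives.2 ⟨hi, (hζ.pow_iff_coprime hn i).1 ((mem_primitiveRoots hn).1 hμ)⟩, rfl⟩

universe u
variable {G : Type u} [Group G] [Finite G]

/-- Character values at powers of `g` are values of one integer polynomial at the powers of a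
primitive root of unity. -/
theorem exists_poly_char {χ : G → ℂ} (hχ : Cfsg.IsCharacter G χ) {g : G} {n : ℕ} (hn : 0 < n)
    (hg : g ^ n = 1) {ζ : ℂ} (hζ : IsPrimitiveRoot ζ n) :
    ∃ P : ℤ[X], ∀ j : ℕ, χ (g ^ j) = aeval (ζ ^ j) P := by
  classical
  obtain ⟨m, ρ, rfl⟩ := hχ
  obtain ⟨μ, hμ, hj, -⟩ := CfsgLib.Characters.exists_eigenvalues ρ g
  have : NeZero n := ⟨hn.ne'⟩
  have hex : ∀ i, ∃ a : ℕ, ζ ^ a = μ i := fun i => by
    obtain ⟨a, -, ha⟩ := hζ.eq_pow_of_pow_eq_one (ξ := μ i) (by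
      obtain ⟨c, hc⟩ := orderOf_dvd_of_pow_eq_one hg
      rw [hc, pow_mul, hμ i, one_pow])
    exact ⟨a, ha⟩
  choose a ha using hex
  refine ⟨∑ i, X ^ a i, fun j => ?_⟩
  rw [hj j, map_sum]
  refine Finset.sum_congr rfl fun i _ => ?_
  rw [map_pow, aeval_X, ← ha i, ← pow_mul, ← pow_mul, mul_comm]

/-- A nonzero character value has Galois mean of squared absolute value at least one. -/
theorem totient_le_sum_char {χ : G → ℂ} (hχ : Cfsg.IsCharacter G χ) {g : G} {n : ℕ} (hn : 0 < n)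
    (hg : g ^ n = 1) (h0 : χ g ≠ 0) (e : ℕ) :
    (n.totient : ℝ) ≤ ∑ k ∈ totatives n, ‖χ (g ^ k)‖ ^ e := by
  have hζ := Complex.isPrimitiveRoot_exp n hn.ne'
  obtain ⟨P, hP⟩ := exists_poly_char hχ hn hg hζ
  have h1 := totient_le_sum_totatives hn hζ P e (k₀ := 1) (Nat.coprime_one_left n)
    (by rwa [← hP 1, pow_one])
  refine h1.trans_eq (Finset.sum_congr rfl fun k _ => ?_)
  rw [hP k]

/-- A power prime to the exponent of `g` does not create zeros. -/
theorem char_pow_ne_zero {χ : G → ℂ} (hχ : Cfsg.IsCharacter G χ) {g : G} {n k : ℕ} (hn : 0 < n)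
    (hg : g ^ n = 1) (hk : k.Coprime n) (h0 : χ g ≠ 0) : χ (g ^ k) ≠ 0 := by
  have hζ := Complex.isPrimitiveRoot_exp n hn.ne'
  obtain ⟨P, hP⟩ := exists_poly_char hχ hn hg hζ
  rw [hP k]
  refine aeval_ne_zero_of_primitive hn P hζ (hζ.pow_of_coprime k hk) ?_
  have h1 := hP 1
  rw [pow_one, pow_one] at h1
  rwa [← h1]

omit [Finite G] in
/-- Averaging a function with the Galois lower bound over a set stable under coprime powers. -/
theorem card_le_sum_of_totient_le (S : Finset G) {n : ℕ} (hn : 0 < n) (hdvd : Nat.card G ∣ n)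
    (hS : ∀ g ∈ S, ∀ k ∈ totatives n, g ^ k ∈ S) (f : G → ℝ)
    (h : ∀ g ∈ S, (n.totient : ℝ) ≤ ∑ k ∈ totatives n, f (g ^ k)) :
    (S.card : ℝ) ≤ ∑ g ∈ S, f g := by
  have hphi : (0 : ℝ) < n.totient := Nat.cast_pos.2 (Nat.totient_pos.2 hn)
  have hbij : ∀ k ∈ totatives n, ∑ g ∈ S, f (g ^ k) = ∑ g ∈ S, f g := by
    intro k hk
    have hcop : (Nat.card G).Coprime k :=
      Nat.Coprime.coprime_dvd_left hdvd (mem_totatives.1 hk).2.symm
    have hinj : Function.Injective fun g : G => g ^ k := (powCoprime hcop).injective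
    refine Finset.sum_bij (fun g _ => g ^ k) (fun g hg => hS g hg k hk)
      (fun a _ b _ e => hinj e) (fun b hb => ?_) (fun _ _ => rfl)
    obtain ⟨a, ha, e⟩ := Finset.surj_on_of_inj_on_of_card_le (fun g (_ : g ∈ S) => g ^ k)
      (fun g hg => hS g hg k hk) (fun a b _ _ e => hinj e) le_rfl b hb
    exact ⟨a, ha, e.symm⟩
  have h1 : (S.card : ℝ) * n.totient ≤ (∑ g ∈ S, f g) * n.totient := by
    calc (S.card : ℝ) * n.totient = ∑ g ∈ S, (n.totient : ℝ) := by simp
      _ ≤ ∑ g ∈ S, ∑ k ∈ totatives n, f (g ^ k) := Finset.sum_le_sum h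
      _ = ∑ k ∈ totatives n, ∑ g ∈ S, f g := by rw [Finset.sum_comm]; exact Finset.sum_congr rfl hbij
      _ = (∑ g ∈ S, f g) * n.totient := by
        rw [Finset.sum_const, card_totatives, nsmul_eq_mul, mul_comm]
  exact le_of_mul_le_mul_right h1 hphi

/-- On a set stable under coprime powers without zeros of `χ`, `∑ ‖χ g‖ ^ e` is at least the size. -/
theorem card_le_sum_norm_pow_char {χ : G → ℂ} (hχ : Cfsg.IsCharacter G χ) (e : ℕ) (S : Finset G)
    (hS : ∀ g ∈ S, ∀ k ∈ totatives (Nat.card G), g ^ k ∈ S) (h0 : ∀ g ∈ S, χ g ≠ 0) :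
    (S.card : ℝ) ≤ ∑ g ∈ S, ‖χ g‖ ^ e :=
  card_le_sum_of_totient_le S Nat.card_pos dvd_rfl hS (fun g => ‖χ g‖ ^ e) fun g hg =>
    totient_le_sum_char hχ Nat.card_pos pow_card_eq_one' (h0 g hg) e

/-- The row norm `∑ ‖χ g‖² = #G` of an irreducible character. -/
theorem sum_normSq_irr [Fintype G] {χ : G → ℂ} (h : Cfsg.classInner χ χ = 1) :
    ∑ g : G, ‖χ g‖ ^ 2 = (Nat.card G : ℝ) := by
  have hG : (Nat.card G : ℂ) ≠ 0 := Nat.cast_ne_zero.2 Nat.card_pos.ne'
  rw [Cfsg.classInner, inv_mul_eq_one₀ hG] at h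
  simp only [Complex.mul_conj'] at h
  exact_mod_cast h.symm

end CfsgLib.GaloisAverage
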