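import Mathlib
import Cfsg.Agent.GaloisAverage.Basic
import Cfsg.Agent.Characters.Integrality
import Cfsg.Agent.Characters.Linear

/-!
# Irreducible characters at elements of an abelian normal subgroup with coprime complement

If `V` is an abelian normal `p`-subgroup of `X` with a complement `G` of order prime to `p`, no
irreducible character of `X` vanishes on `V` (`char_ne_zero_of_mem`).
-/

set_option autoImplicit false

namespace CfsgLib.GaloisAverage

open Polynomial CfsgLib.Characters

universe u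
variable {X : Type u} [Group X] [Finite X]

/-- A character value at a `p`-element is nonzero when the degree is prime to `p`. -/
theorem char_ne_zero_of_pow {χ : X → ℂ} (hχ : Cfsg.IsCharacter X χ) {p e d : ℕ} [Fact p.Prime]
    {v : X} (hv : v ^ p ^ e = 1) (hd : χ 1 = d) (hpd : ¬ p ∣ d) : χ v ≠ 0 := by
  have hn : 0 < p ^ e := pow_pos (Fact.out : p.Prime).pos _
  have hζ := Complex.isPrimitiveRoot_exp (p ^ e) hn.ne'
  obtain ⟨P, hP⟩ := exists_poly_char hχ hn hv hζ
  intro h0
  have h1 := hP 1
  rw [pow_one, pow_one, h0] at h1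
  have hdeg : P.eval 1 = (d : ℤ) := by
    have h2 := hP 0
    rw [pow_zero, pow_zero, hd] at h2
    rw [aeval_def, show (1 : ℂ) = algebraMap ℤ ℂ 1 from (map_one _).symm, eval₂_at_apply] at h2
    simpa using (Int.cast_inj (α := ℂ)).1 (by simpa using h2.symm)
  obtain rfl | ⟨e', rfl⟩ : e = 0 ∨ ∃ e', e = e' + 1 := by
    rcases e with _ | e'
    · exact Or.inl rfl
    · exact Or.inr ⟨e', rfl⟩
  · rw [pow_zero, pow_one] at hv
    rw [hv, hd] at h0
    exact hpd (by simp [Nat.cast_eq_zero.1 h0])
  · have hdvd : cyclotomic (p ^ (e' + 1)) ℤ ∣ P := by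
      rw [cyclotomic_eq_minpoly hζ hn]
      exact minpoly.isIntegrallyClosed_dvd (hζ.isIntegral hn) h1.symm
    have := eval_dvd hdvd (x := 1)
    rw [eval_one_cyclotomic_prime_pow, hdeg] at this
    exact hpd (Int.natCast_dvd_natCast.1 this)

/-- Irreducible characters of a commutative group are linear. -/
theorem irr_one_eq_one {A : Type u} [Group A] [Finite A] [IsMulCommutative A] {μ : A → ℂ}
    (hμ : Cfsg.IsIrrCharacter A μ) : μ 1 = 1 := by
  obtain ⟨n, ρ, hρ, rfl⟩ := hμ
  have := Fintype.ofFinite A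
  have h := finrank_dvd_index ρ (⊤ : Subgroup A) fun z _ =>
    central_scalar ρ (Subgroup.mem_center_iff.2 fun g => mul_comm' g z)
  rw [Subgroup.index_top, Nat.dvd_one] at h
  rw [Representation.char_one, h, Nat.cast_one]

/-- No irreducible character vanishes on an abelian normal `p`-subgroup with a `p'`-complement. -/
theorem char_ne_zero_of_mem {p : ℕ} [Fact p.Prime] (V : Subgroup X) [V.Normal] (hVp : IsPGroup p V)
    (hab : ∀ a ∈ V, ∀ b ∈ V, a * b = b * a) (G : Subgroup X) (hGV : Subgroup.IsComplement' V G)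
    (hG : ¬ p ∣ Nat.card G) {χ : X → ℂ} (hχ : Cfsg.IsIrrCharacter X χ) {v : X} (hv : v ∈ V) :
    χ v ≠ 0 := by
  classical
  have := Fintype.ofFinite X
  have : IsMulCommutative V := ⟨⟨fun a b => Subtype.ext (hab a a.2 b b.2)⟩⟩
  obtain ⟨n, ρ, hρ, rfl⟩ := hχ
  have hρχ := isIrrCharacter_character ρ
  set χ := ρ.character with hχdef
  have hcl := isClassFunction_of_isIrr hρχ
  -- a linear constituent of the restriction
  obtain ⟨lam, hlam⟩ : ∃ lam : V →* ℂˣ, (∑ u : V, χ u * (starRingEnd ℂ) (lam u : ℂ)) ≠ 0 := by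
    by_contra hc
    push Not at hc
    refine irr_one_ne_zero hρχ ?_
    have h := congrFun (character_expansion (isCharacter_restrict V (isCharacter_of_isIrr hρχ))) 1
    rw [show χ 1 = χ ((1 : V) : X) from rfl]
    refine h.trans ?_
    rw [Finset.sum_apply]
    refine Finset.sum_eq_zero fun μ _ => ?_
    obtain ⟨f, hf⟩ := exists_hom_of_degree_one (isCharacter_of_isIrr μ.2) (irr_one_eq_one μ.2)
    rw [Pi.smul_apply, Cfsg.classInner, hf, hc f, mul_zero, zero_smul]
  -- the sum of its conjugates
  let lg : X → V →* ℂˣ := fun g => lam.comp (MulAut.conjNormal g : MulAut V).toMonoidHom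
  let θ : V → ℂ := fun u => ∑ g : G, (lg g u : ℂ)
  have hlg : ∀ g h u, lg g (MulAut.conjNormal h u) = lg (g * h) u := fun g h u => by
    simp [lg, map_mul]
  have hθ : ∀ (x : X) (u : V), θ (MulAut.conjNormal x u) = θ u := by
    intro x u
    have hfac : ∀ y : X, ∃ g : G, ∃ w : V, y = w * g := fun y => by
      obtain ⟨⟨w, g⟩, rfl⟩ := hGV.2 y
      exact ⟨g, w, rfl⟩
    choose s w hs using hfac
    have hw : ∀ (a : V) (y : X) (u : V), lg ((a : X) * y) u = lg y u := by
      intro a y u
      have e : MulAut.conjNormal (a : X) (MulAut.conjNormal y u) = MulAut.conjNormal y u := by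
        apply Subtype.ext
        rw [MulAut.conjNormal_apply]
        set b := (MulAut.conjNormal y u : V)
        rw [hab a a.2 b b.2, mul_inv_cancel_right]
      simp only [lg, MonoidHom.comp_apply, MulEquiv.coe_toMonoidHom, map_mul, MulAut.mul_apply, e]
    have hinj : Function.Injective fun g : G => s (g * x) := by
      intro a b hab'
      have h1 := hs ((a : X) * x)
      have h2 := hs ((b : X) * x)
      simp only at hab'
      rw [← hab'] at h2
      have hm : (a : X) * (b : X)⁻¹ ∈ V ⊓ G := by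
        refine ⟨?_, G.mul_mem a.2 (G.inv_mem b.2)⟩
        have : (a : X) * (b : X)⁻¹ = (w (a * x) : X) * (w (b * x) : X)⁻¹ := by
          calc (a : X) * (b : X)⁻¹ = ((a : X) * x) * ((b : X) * x)⁻¹ := by group
            _ = ((w (a * x) : X) * s (a * x)) * ((w (b * x) : X) * s (a * x))⁻¹ :=
              congrArg₂ (fun y z => y * z⁻¹) h1 h2
            _ = _ := by group
        rw [this]
        exact V.mul_mem (w _).2 (V.inv_mem (w _).2)
      rw [hGV.disjoint.eq_bot, Subgroup.mem_bot, mul_inv_eq_one] at hm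
      exact Subtype.ext hm
    simp only [θ, hlg]
    refine Fintype.sum_bijective _ ((Finite.injective_iff_bijective).1 hinj) _ _ fun g => ?_
    conv_lhs => rw [hs ((g : X) * x), hw]
  -- the attached operator is a scalar
  let E : (Fin n → ℂ) →ₗ[ℂ] (Fin n → ℂ) := ∑ u : V, (starRingEnd ℂ) (θ u) • ρ u
  have hE : ∀ x z, E (ρ x z) = ρ x (E z) := by
    intro x z
    simp only [E, LinearMap.sum_apply, LinearMap.smul_apply, map_sum, map_smul]
    refine (Fintype.sum_equiv (MulAut.conjNormal x : MulAut V).toEquiv _ _ fun u => ?_).symm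
    simp only [MulEquiv.toEquiv_eq_coe, EquivLike.coe_coe, hθ, MulAut.conjNormal_apply]
    rw [← Module.End.mul_apply, ← Module.End.mul_apply, ← map_mul, ← map_mul, inv_mul_cancel_right]
  obtain ⟨c, hc⟩ := schur_scalar ρ E hE
  -- its trace against `ρ w`
  set a : ℂ := ∑ u : V, χ u * (starRingEnd ℂ) (lam u : ℂ) with ha
  have hag : ∀ g : X, ∑ u : V, χ u * (starRingEnd ℂ) (lg g u : ℂ) = a := by
    intro g
    refine Fintype.sum_equiv (MulAut.conjNormal g : MulAut V).toEquiv _ _ fun u => ?_
    simp only [MulEquiv.toEquiv_eq_coe, EquivLike.coe_coe, MulAut.conjNormal_apply]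
    rw [hcl (u : X) g]
    rfl
  have hstar : ∀ (f : V →* ℂˣ) (w : V), (starRingEnd ℂ) (f w : ℂ) = ((f w : ℂˣ) : ℂ)⁻¹ := by
    intro f w
    have hf : (f w : ℂ) ^ Nat.card V = 1 := by
      rw [← Units.val_pow_eq_pow_val, ← map_pow, pow_card_eq_one', map_one, Units.val_one]
    exact (Complex.inv_eq_conj (Complex.norm_eq_one_of_pow_eq_one hf Nat.card_pos.ne')).symm
  have key : ∀ w : V, c * χ w = a * θ w := by
    intro w
    have htr : LinearMap.trace ℂ _ (E * ρ w) = c * χ w := by
      rw [hc, smul_mul_assoc, map_smul, smul_eq_mul]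
      rfl
    rw [← htr]
    calc LinearMap.trace ℂ _ (E * ρ w) = ∑ u : V, (starRingEnd ℂ) (θ u) * χ ((u * w : V) : X) := by
          simp only [E, Finset.sum_mul, smul_mul_assoc, map_sum, map_smul, ← map_mul, smul_eq_mul,
            Subgroup.coe_mul]
          rfl
      _ = ∑ g : G, ∑ u : V, χ ((u * w : V) : X) * (starRingEnd ℂ) (lg g u : ℂ) := by
          rw [Finset.sum_comm]
          refine Finset.sum_congr rfl fun u _ => ?_
          rw [← Finset.mul_sum, map_sum, mul_comm]
      _ = ∑ g : G, a * (lg g w : ℂ) := by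
          refine Finset.sum_congr rfl fun g _ => ?_
          rw [← hag g, Finset.sum_mul]
          refine Fintype.sum_equiv (Equiv.mulRight w) _ _ fun u => ?_
          simp only [Equiv.coe_mulRight, map_mul, Units.val_mul, hstar]
          have hne : (lg g w : ℂ) ≠ 0 := Units.ne_zero _
          field_simp
      _ = a * θ w := by rw [← Finset.mul_sum]
  have hc0 : c ≠ 0 := by
    intro h0
    have h1 := key 1
    rw [h0, zero_mul] at h1
    simp [θ, hlam] at h1
  -- conclude
  have hθchar : Cfsg.IsCharacter V θ := by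
    rw [show θ = ∑ g : G, (fun u : V => (lg g u : ℂ)) from funext fun u => by simp [θ]]
    exact isCharacter_sum _ _ fun g _ => isCharacter_of_isIrr (isIrr_linChar _)
  obtain ⟨e, he⟩ := hVp ⟨v, hv⟩
  have hne : θ ⟨v, hv⟩ ≠ 0 := char_ne_zero_of_pow hθchar (p := p) (d := Nat.card G) (e := e) he
    (by simp [θ, Nat.card_eq_fintype_card]) hG
  intro h0
  have h2 := key ⟨v, hv⟩
  rw [show χ ((⟨v, hv⟩ : V) : X) = χ v from rfl, h0, mul_zero] at h2
  exact mul_ne_zero hlam hne h2.symm

end CfsgLib.GaloisAverage
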