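import Mathlib
import Cfsg.Agent.GaloisAverage.Ito
import Cfsg.Agent.GaloisAverage.CycFamily
import Cfsg.Agent.BlocksCharsC.Congruence

/-!
# The class number criterion for `k(GV)`

`class_number_le_of_weights`: with `X = V G`, `v ∈ V` and `H = C_G(v)`, if weights `f` on `H`
satisfy `f h * |C_V(h)| ≤ |V|` and every irreducible character `χ` has
`∑_k ∑_h f h * |χ (v^k h)|² ≥ φ(n) |H| k(H)`, then `k(X) ≤ |V|`.
-/

set_option autoImplicit false

namespace CfsgLib.GaloisAverage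

open CfsgLib.Characters Cfsg

universe u
variable {X : Type u} [Group X] [Finite X]

/-- An abelian normal subgroup with coprime complement: the degrees are prime to `p`. -/
theorem degree_not_dvd {p : ℕ} (V : Subgroup X) [V.Normal] (hab : ∀ a ∈ V, ∀ b ∈ V, a * b = b * a)
    (hidx : ¬ p ∣ V.index) {χ : X → ℂ} (hχ : Cfsg.IsIrrCharacter X χ) :
    ∃ d : ℕ, χ 1 = d ∧ ¬ p ∣ d := by
  obtain ⟨d, hd, hdvd⟩ := exists_degree_dvd_index hχ V hab
  exact ⟨d, hd, fun h => hidx (h.trans hdvd)⟩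

/-- An irreducible character is a unit modulo `M` on `V`. -/
theorem value_not_mem {p : ℕ} {M : Ideal AlgInt} (hM : Cfsg.IsPModular p M) (V : Subgroup X)
    [V.Normal] (hVp : IsPGroup p V) (hab : ∀ a ∈ V, ∀ b ∈ V, a * b = b * a)
    (hidx : ¬ p ∣ V.index) {χ : X → ℂ} (hχ : Cfsg.IsIrrCharacter X χ) {v : X} (hv : v ∈ V)
    (a : AlgInt) (ha : (a : ℂ) = χ v) : a ∉ M := by
  obtain ⟨d, hd, hpd⟩ := degree_not_dvd V hab hidx hχ
  have : Fact p.Prime := ⟨hM.1⟩
  obtain ⟨j, hj⟩ := IsPGroup.iff_orderOf.1 hVp ⟨v, hv⟩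
  rw [Subgroup.orderOf_mk] at hj
  obtain ⟨b, hb, hbe⟩ := CfsgLib.BlocksCharsC.sub_degree_mem hM (isCharacter_of_isIrr hχ) hj
  intro hmem
  refine hpd ((CfsgLib.Blocks.IsPModular.natCast_mem_iff hM d).1 ?_)
  have : (d : AlgInt) = a - b := Subtype.ext (by
    push_cast
    rw [ha, hbe, ← hd]; ring)
  rw [this]
  exact M.sub_mem hmem hb

variable (V G : Subgroup X) [V.Normal]

/-- The centralizer of `w h` for `w` a generator of `⟨v⟩` and `h ∈ C_G(v)`. -/
theorem card_centralizer_pow_mul (hab : ∀ a ∈ V, ∀ b ∈ V, a * b = b * a)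
    (hGV : Subgroup.IsComplement' V G) (hcop : (Nat.card V).Coprime (Nat.card G)) {v : X}
    (hv : v ∈ V) (H : Subgroup X) (hH : H = G ⊓ Subgroup.centralizer ({v} : Set X)) {k : ℕ}
    (hk : k.Coprime (Nat.card X)) (h : H) :
    Nat.card (Subgroup.centralizer ({v ^ k * (h : X)} : Set X)) =
      Nat.card ↥(V ⊓ Subgroup.centralizer ({(h : X)} : Set X)) *
        Nat.card ↥(Subgroup.centralizer ({h} : Set H)) := by
  have hh := (hH ▸ h.2 : (h : X) ∈ G ⊓ Subgroup.centralizer ({v} : Set X))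
  have hhv : (h : X) * v = v * h := Subgroup.mem_centralizer_singleton_iff.1 hh.2
  have hcomm : Commute (v ^ k) (h : X) := (Commute.symm hhv).pow_left k
  obtain ⟨j, hjV, hjG⟩ := Nat.chineseRemainder hcop 0 1
  have hpart : (v ^ k * (h : X)) ^ j = h := by
    have h1 : (v ^ k) ^ j = 1 := orderOf_dvd_iff_pow_eq_one.1
      ((Subgroup.orderOf_dvd_natCard V (V.pow_mem hv k)).trans (Nat.modEq_zero_iff_dvd.1 hjV))
    rw [hcomm.mul_pow, h1, one_mul,
      pow_eq_pow_iff_modEq.2 (hjG.of_dvd (Subgroup.orderOf_dvd_natCard G hh.1)), pow_one]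
  have hVG : ∀ {a : X}, a ∈ V → a ∈ G → a = 1 := fun ha hb =>
    Subgroup.mem_bot.1 (hGV.disjoint.eq_bot ▸ Subgroup.mem_inf.2 ⟨ha, hb⟩)
  have hsplit : ∀ x ∈ Subgroup.centralizer ({v ^ k * (h : X)} : Set X),
      x * h = h * x ∧ x * v = v * x := by
    intro x hx
    have hx' : Commute x (v ^ k * (h : X)) := Subgroup.mem_centralizer_singleton_iff.1 hx
    have h1 : Commute x (h : X) := hpart ▸ hx'.pow_right j
    refine ⟨h1, ?_⟩
    have h2 : Commute x (v ^ k) := by
      have := hx'.mul_right h1.inv_right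
      rwa [mul_inv_cancel_right] at this
    obtain ⟨i, hi⟩ := exists_pow_eq_self_of_coprime
      (hk.coprime_dvd_right (orderOf_dvd_natCard v))
    have := h2.pow_right i
    rw [hi] at this
    exact this
  rw [← Nat.card_prod]
  refine (Nat.card_congr (Equiv.ofBijective (fun q : ↥(V ⊓ Subgroup.centralizer ({(h : X)} : Set X)) ×
      ↥(Subgroup.centralizer ({h} : Set H)) =>
      (⟨(q.1 : X) * ((q.2 : H) : X), ?_⟩ : ↥(Subgroup.centralizer ({v ^ k * (h : X)} : Set X))))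
      ⟨?_, ?_⟩)).symm
  · rw [Subgroup.mem_centralizer_singleton_iff]
    have hu := (hH ▸ (q.2 : H).2 : ((q.2 : H) : X) ∈ G ⊓ Subgroup.centralizer ({v} : Set X))
    have e1 : Commute (q.1 : X) (v ^ k) := (Commute.pow_right (hab _ q.1.2.1 _ hv) k)
    have e2 : Commute (q.1 : X) (h : X) := Subgroup.mem_centralizer_singleton_iff.1 q.1.2.2
    have e3 : Commute ((q.2 : H) : X) (v ^ k) :=
      Commute.pow_right (Subgroup.mem_centralizer_singleton_iff.1 hu.2) k
    have e4 : Commute ((q.2 : H) : X) (h : X) :=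
      congrArg Subtype.val (Subgroup.mem_centralizer_singleton_iff.1 q.2.2)
    exact (e1.mul_right e2).mul_left (e3.mul_right e4)
  · rintro ⟨a, b⟩ ⟨a', b'⟩ he
    have he' := congrArg Subtype.val he
    have hb := (hH ▸ (b : H).2 : ((b : H) : X) ∈ G ⊓ Subgroup.centralizer ({v} : Set X))
    have hb' := (hH ▸ (b' : H).2 : ((b' : H) : X) ∈ G ⊓ Subgroup.centralizer ({v} : Set X))
    have := hGV.1 (a₁ := (⟨a, a.2.1⟩, ⟨_, hb.1⟩)) (a₂ := (⟨a', a'.2.1⟩, ⟨_, hb'.1⟩)) he'
    simp only [Prod.mk.injEq, Subtype.mk.injEq] at this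
    exact Prod.ext (Subtype.ext this.1) (Subtype.ext (Subtype.ext this.2))
  · rintro ⟨x, hx⟩
    obtain ⟨hxh, hxv⟩ := hsplit x hx
    obtain ⟨⟨⟨a, ha⟩, ⟨b, hb⟩⟩, rfl⟩ := hGV.2 x
    simp only at hxh hxv hx ⊢
    have hbv : b * v = v * b := by
      have := hab a ha v hv
      calc b * v = a⁻¹ * (a * b * v) := by group
        _ = a⁻¹ * (v * (a * b)) := by rw [hxv]
        _ = a⁻¹ * ((v * a) * b) := by group
        _ = v * b := by rw [← this]; group
    have hbH : b ∈ H := hH ▸ ⟨hb, Subgroup.mem_centralizer_singleton_iff.2 hbv⟩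
    have hbh : b * h * b⁻¹ = h := by
      set y := b * (h : X) * b⁻¹ with hy
      have hyG : y ∈ G := G.mul_mem (G.mul_mem hb hh.1) (G.inv_mem hb)
      have hay : a * y * a⁻¹ = h := by
        rw [hy]
        calc a * (b * h * b⁻¹) * a⁻¹ = (a * b * h) * (a * b)⁻¹ := by group
          _ = _ := by rw [hxh]; group
      have hmem : (h : X) * y⁻¹ ∈ V := by
        have : (h : X) * y⁻¹ = a * (y * a⁻¹ * y⁻¹) := by rw [← hay]; group
        rw [this]
        exact V.mul_mem ha ((inferInstance : V.Normal).conj_mem _ (V.inv_mem ha) y)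
      exact (mul_inv_eq_one.1 (hVG hmem (G.mul_mem hh.1 (G.inv_mem hyG)))).symm
    have hbh' : b * h = h * b := mul_inv_eq_iff_eq_mul.1 hbh
    refine ⟨⟨⟨a, ha, Subgroup.mem_centralizer_singleton_iff.2 ?_⟩, ⟨⟨b, hbH⟩, ?_⟩⟩, rfl⟩
    · calc a * h = (a * b * h) * b⁻¹ := by rw [mul_assoc a b, hbh']; group
        _ = _ := by rw [hxh]; group
    · rw [Subgroup.mem_centralizer_singleton_iff]
      exact Subtype.ext hbh'

/-- The total of `|C_H h|` over `h` is `k(H) |H|`. -/
theorem sum_card_centralizer (H : Type u) [Group H] [Fintype H] :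
    ∑ h : H, Nat.card ↥(Subgroup.centralizer ({h} : Set H)) =
      Nat.card (ConjClasses H) * Nat.card H := by
  classical
  rw [← card_comm_eq_card_conjClasses_mul_card, ← Nat.card_sigma]
  exact Nat.card_congr ⟨fun q => ⟨(q.1, (q.2 : H)), (Subgroup.mem_centralizer_singleton_iff.1 q.2.2).symm⟩,
    fun q => ⟨q.1.1, ⟨q.1.2, Subgroup.mem_centralizer_singleton_iff.2 q.2.eq.symm⟩⟩,
    fun q => rfl, fun q => rfl⟩

/-- **The criterion.** -/
theorem class_number_le_of_weights (hab : ∀ a ∈ V, ∀ b ∈ V, a * b = b * a)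
    (hGV : Subgroup.IsComplement' V G) (hcop : (Nat.card V).Coprime (Nat.card G)) {v : X}
    (hv : v ∈ V) (H : Subgroup X) [Fintype H] (hH : H = G ⊓ Subgroup.centralizer ({v} : Set X))
    (f : ℕ → H → ℝ)
    (hf : ∀ k ∈ totatives (Nat.card X), ∀ h : H,
      f k h * Nat.card ↥(V ⊓ Subgroup.centralizer ({(h : X)} : Set X)) ≤ Nat.card V)
    (hlow : ∀ χ : Cfsg.IrrCharacter X,
      ((Nat.card X).totient : ℝ) * (Nat.card (ConjClasses H) * Nat.card H : ℕ) ≤
        ∑ k ∈ totatives (Nat.card X), ∑ h : H, f k h * ‖(χ : X → ℂ) (v ^ k * h)‖ ^ 2) :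
    Nat.card (ConjClasses X) ≤ Nat.card V := by
  classical
  have := Fintype.ofFinite X
  set n := Nat.card X with hn
  set T : ℝ := ((Nat.card (ConjClasses H) * Nat.card H : ℕ) : ℝ) with hT
  have hT0 : 0 < T := Nat.cast_pos.2 (Nat.mul_pos Nat.card_pos Nat.card_pos)
  have hphi : (0 : ℝ) < n.totient := Nat.cast_pos.2 (Nat.totient_pos.2 Nat.card_pos)
  have hcol : ∀ x : X, ∑ χ : Cfsg.IrrCharacter X, ‖(χ : X → ℂ) x‖ ^ 2 =
      (Nat.card ↥(Subgroup.centralizer ({x} : Set X)) : ℝ) := by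
    intro x
    have h := sum_irr_mul_conj_of_isConj (IsConj.refl x)
    simp only [Complex.mul_conj'] at h
    exact_mod_cast h
  have h1 : (Fintype.card (Cfsg.IrrCharacter X) : ℝ) * ((n.totient : ℝ) * T) ≤
      (Nat.card V : ℝ) * ((n.totient : ℝ) * T) := by
    calc (Fintype.card (Cfsg.IrrCharacter X) : ℝ) * ((n.totient : ℝ) * T)
        = ∑ _χ : Cfsg.IrrCharacter X, (n.totient : ℝ) * T := by simp
      _ ≤ ∑ χ : Cfsg.IrrCharacter X, ∑ k ∈ totatives n, ∑ h : H,
            f k h * ‖(χ : X → ℂ) (v ^ k * h)‖ ^ 2 := Finset.sum_le_sum fun χ _ => hlow χ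
      _ = ∑ k ∈ totatives n, ∑ h : H,
            f k h * (Nat.card ↥(Subgroup.centralizer ({v ^ k * (h : X)} : Set X)) : ℝ) := by
          rw [Finset.sum_comm]
          refine Finset.sum_congr rfl fun k _ => ?_
          rw [Finset.sum_comm]
          exact Finset.sum_congr rfl fun h _ => by rw [← Finset.mul_sum, hcol]
      _ ≤ ∑ k ∈ totatives n, ∑ h : H,
            (Nat.card V : ℝ) * (Nat.card ↥(Subgroup.centralizer ({h} : Set H)) : ℝ) := by
          refine Finset.sum_le_sum fun k hk => Finset.sum_le_sum fun h _ => ?_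
          rw [card_centralizer_pow_mul V G hab hGV hcop hv H hH (mem_totatives.1 hk).2 h,
            Nat.cast_mul, ← mul_assoc]
          exact mul_le_mul_of_nonneg_right (hf k hk h) (Nat.cast_nonneg _)
      _ = (Nat.card V : ℝ) * ((n.totient : ℝ) * T) := by
          rw [Finset.sum_const, card_totatives, nsmul_eq_mul, ← Finset.mul_sum, ← Nat.cast_sum,
            sum_card_centralizer, hT]
          ring
  have h2 := le_of_mul_le_mul_right h1 (mul_pos hphi hT0)
  rw [← Nat.card_eq_fintype_card, card_irrCharacter] at h2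
  exact_mod_cast h2

end CfsgLib.GaloisAverage
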