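import Mathlib
import Cfsg.Agent.GaloisAverage.AbelianWeights
import Cfsg.Agent.GaloisAverage.Criterion

/-!
# The abelian stabiliser criterion for `k(GV)`

`exists_weights` builds the weights along a chief series of an elementary abelian group under a
coprime abelian operator group; `class_number_le_of_abelian_stabilizer` is the criterion.
-/

set_option autoImplicit false
set_option linter.style.haveILetI false

namespace CfsgLib.GaloisAverage

open CfsgLib.Characters Cfsg

universe u v
variable {X : Type u} [Group X] [Finite X] {H : Type v} [CommGroup H] [Fintype H]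

theorem exists_weights {p : ℕ} [Fact p.Prime] (ι : H →* X) (hcop : ¬ p ∣ Nat.card H) (V : Subgroup X)
    (hexp : ∀ v ∈ V, v ^ p = 1) (hab : ∀ a ∈ V, ∀ b ∈ V, a * b = b * a) :
    ∀ W : Subgroup X, W ≤ V → (∀ h, ∀ w ∈ W, ι h * w * (ι h)⁻¹ ∈ W) →
      ∃ l : List (Subgroup (H →* ℂˣ)),
        (∀ h, weight l h * Nat.card ↥(W ⊓ Subgroup.centralizer ({ι h} : Set X)) ≤ Nat.card W) ∧
        (∀ h, (∀ A ∈ l, ∀ a ∈ A, a h = 1) → ∀ w ∈ W, w * ι h = ι h * w) := by
  classical
  intro W
  induction W using WellFoundedLT.induction with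
  | _ W ih =>
    intro hWV hW
    rcases eq_or_ne W ⊥ with rfl | hne
    · refine ⟨[], fun h => ?_, fun h _ w hw => ?_⟩
      · simp only [weight, one_mul, Nat.cast_le]
        exact Subgroup.card_le_of_le inf_le_left
      · rw [Subgroup.mem_bot.1 hw, one_mul, mul_one]
    -- a maximal invariant proper subgroup
    obtain ⟨W', ⟨hlt, hW'⟩, hmax⟩ := wellFounded_gt.has_min
      {U : Subgroup X | U < W ∧ ∀ h, ∀ w ∈ U, ι h * w * (ι h)⁻¹ ∈ U}
      ⟨⊥, bot_lt_iff_ne_bot.2 hne, fun h w hw => by simp [Subgroup.mem_bot.1 hw]⟩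
    obtain ⟨l, hl1, hl2⟩ := ih W' hlt (hlt.le.trans hWV) hW'
    -- the operator homomorphisms
    let δ : H → X → X := fun h w => ι h * w * (ι h)⁻¹ * w⁻¹
    have habW : ∀ a ∈ W, ∀ b ∈ W, a * b = b * a := fun a ha b hb => hab a (hWV ha) b (hWV hb)
    have hδmul : ∀ h, ∀ a ∈ W, ∀ b ∈ W, δ h (a * b) = δ h a * δ h b := by
      intro h a ha b hb
      have hu := hW h b hb
      simp only [δ]
      calc ι h * (a * b) * (ι h)⁻¹ * (a * b)⁻¹
          = (ι h * a * (ι h)⁻¹) * ((ι h * b * (ι h)⁻¹) * b⁻¹) * a⁻¹ := by group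
        _ = (ι h * a * (ι h)⁻¹) * (a⁻¹ * ((ι h * b * (ι h)⁻¹) * b⁻¹)) := by
            rw [mul_assoc, habW _ (W.mul_mem hu (W.inv_mem hb)) _ (W.inv_mem ha)]
        _ = _ := by group
    -- the kernel on the top factor
    let K : Subgroup H :=
      { carrier := {h | ∀ w ∈ W, δ h w ∈ W'}
        one_mem' := fun w _ => by simp [δ, W'.one_mem]
        mul_mem' := fun {a b} ha hb w hw => by
          have e : δ (a * b) w = ι a * δ b w * (ι a)⁻¹ * δ a w := by simp only [δ, map_mul]; group
          rw [e]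
          exact W'.mul_mem (hW' a _ (hb w hw)) (ha w hw)
        inv_mem' := fun {a} ha w hw => by
          have e : δ a⁻¹ w = (δ a (ι a⁻¹ * w * (ι a⁻¹)⁻¹))⁻¹ := by simp only [δ, map_inv]; group
          rw [e]
          exact W'.inv_mem (ha _ (hW a⁻¹ w hw)) }
    -- irreducibility of the top factor
    have hirr : ∀ U : Subgroup X, W' ≤ U → U ≤ W → (∀ h, ∀ w ∈ U, ι h * w * (ι h)⁻¹ ∈ U) →
        U = W' ∨ U = W := by
      intro U h1 h2 h3
      by_contra hc
      push Not at hc
      exact hmax U ⟨lt_of_le_of_ne h2 hc.2, h3⟩ (lt_of_le_of_ne h1 hc.1.symm)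
    have hfix : ∀ h, h ∉ K → ∀ w ∈ W, δ h w ∈ W' → w ∈ W' := by
      intro h hh w hw hd
      let U : Subgroup X :=
        { carrier := {z | z ∈ W ∧ δ h z ∈ W'}
          one_mem' := ⟨W.one_mem, by simp [δ, W'.one_mem]⟩
          mul_mem' := fun {a b} ha hb => ⟨W.mul_mem ha.1 hb.1, by
            rw [hδmul h a ha.1 b hb.1]; exact W'.mul_mem ha.2 hb.2⟩
          inv_mem' := fun {a} ha => ⟨W.inv_mem ha.1, by
            have e := hδmul h a ha.1 a⁻¹ (W.inv_mem ha.1)
            have h1 : δ h (1 : X) = 1 := by simp [δ]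
            rw [mul_inv_cancel, h1] at e
            rw [eq_inv_of_mul_eq_one_right e.symm]
            exact W'.inv_mem ha.2⟩ }
      have hU1 : W' ≤ U := fun z hz =>
        ⟨hlt.le hz, W'.mul_mem (hW' h z hz) (W'.inv_mem hz)⟩
      have hU3 : ∀ g, ∀ z ∈ U, ι g * z * (ι g)⁻¹ ∈ U := fun g z hz => ⟨hW g z hz.1, by
        have hcomm : ι h * ι g = ι g * ι h := by rw [← map_mul, ← map_mul, mul_comm]
        have e : δ h (ι g * z * (ι g)⁻¹) = ι g * δ h z * (ι g)⁻¹ := by
          simp only [δ]
          calc ι h * (ι g * z * (ι g)⁻¹) * (ι h)⁻¹ * (ι g * z * (ι g)⁻¹)⁻¹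
              = (ι h * ι g) * z * (ι h * ι g)⁻¹ * (ι g * z⁻¹ * (ι g)⁻¹) := by group
            _ = _ := by rw [hcomm]; group
        rw [e]
        exact hW' g _ hz.2⟩
      rcases hirr U hU1 (fun z hz => hz.1) hU3 with h' | h'
      · exact h' ▸ (⟨hw, hd⟩ : w ∈ U)
      · exact absurd (fun z hz => ((h'.symm ▸ hz : z ∈ U)).2) hh
    haveI : NeZero (Monoid.exponent (H ⧸ K) : ℂ) :=
      ⟨Nat.cast_ne_zero.2 Monoid.exponent_ne_zero_of_finite⟩
    let pre : ((H ⧸ K) →* ℂˣ) →* (H →* ℂˣ) :=
      { toFun := fun a => a.comp (QuotientGroup.mk' K)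
        map_one' := rfl
        map_mul' := fun _ _ => rfl }
    have hpre : Function.Injective pre := fun a b e => MonoidHom.ext fun q => by
      obtain ⟨h, rfl⟩ := QuotientGroup.mk_surjective q
      exact DFunLike.congr_fun e h
    let A : Subgroup (H →* ℂˣ) := pre.range
    have hA : Nat.card A = Nat.card (H ⧸ K) := by
      rw [← Nat.card_congr (MonoidHom.ofInjective hpre).toEquiv,
        CommGroup.card_monoidHom_of_hasEnoughRootsOfUnity]
    have hAK : ∀ h, (∀ a ∈ A, a h = 1) → h ∈ K := by
      intro h hh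
      by_contra hK
      obtain ⟨f, hf⟩ := CommGroup.exists_apply_ne_one_of_hasEnoughRootsOfUnity (H ⧸ K) ℂ
        (a := QuotientGroup.mk h) (by rwa [Ne, QuotientGroup.eq_one_iff])
      exact hf (hh (pre f) ⟨f, rfl⟩)
    -- the index of the kernel is smaller than the top factor
    obtain ⟨w₀, hw₀, hw₀'⟩ := SetLike.exists_of_lt hlt
    have hq : (Nat.card A + 1) * Nat.card W' ≤ Nat.card W := by
      rw [hA]
      let B := W'.subgroupOf W
      have hwd : ∀ h : H, ∀ k ∈ K, (QuotientGroup.mk ⟨ι (h * k) * w₀ * (ι (h * k))⁻¹, hW _ _ hw₀⟩ : W ⧸ B) =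
          QuotientGroup.mk ⟨ι h * w₀ * (ι h)⁻¹, hW _ _ hw₀⟩ := by
        intro h k hk
        rw [QuotientGroup.eq, Subgroup.mem_subgroupOf]
        have hd := hk w₀ hw₀
        have e : (ι (h * k) * w₀ * (ι (h * k))⁻¹)⁻¹ * (ι h * w₀ * (ι h)⁻¹) =
            ι h * ((ι k * w₀ * (ι k)⁻¹)⁻¹ * w₀) * (ι h)⁻¹ := by rw [map_mul]; group
        simp only [Subgroup.coe_mul, Subgroup.coe_inv]
        rw [e]
        refine hW' h _ ?_
        rw [habW _ (W.inv_mem (hW k _ hw₀)) _ hw₀]
        have : w₀ * (ι k * w₀ * (ι k)⁻¹)⁻¹ = (δ k w₀)⁻¹ := by simp only [δ]; group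
        rw [this]
        exact W'.inv_mem hd
      let f : H ⧸ K → W ⧸ B := fun q =>
        QuotientGroup.mk ⟨ι q.out * w₀ * (ι q.out)⁻¹, hW _ _ hw₀⟩
      have hf : ∀ h : H, f (QuotientGroup.mk h) = QuotientGroup.mk ⟨ι h * w₀ * (ι h)⁻¹, hW _ _ hw₀⟩ := by
        intro h
        obtain ⟨k, hk⟩ := QuotientGroup.mk_out_eq_mul K h
        simp only [f]
        rw [← hwd h k k.2]
        congr 2
        rw [hk]
      have hinj : Function.Injective f := by
        intro q r hqr
        obtain ⟨a, rfl⟩ := QuotientGroup.mk_surjective q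
        obtain ⟨b, rfl⟩ := QuotientGroup.mk_surjective r
        rw [hf, hf, QuotientGroup.eq, Subgroup.mem_subgroupOf] at hqr
        rw [QuotientGroup.eq]
        by_contra hK
        apply hw₀'
        refine hfix _ hK w₀ hw₀ ?_
        simp only [Subgroup.coe_mul, Subgroup.coe_inv] at hqr
        have h2 := hW' a⁻¹ _ hqr
        have e : δ (a⁻¹ * b) w₀ = ι (a⁻¹ * b) * w₀ * (ι (a⁻¹ * b))⁻¹ * w₀⁻¹ := rfl
        rw [e, habW _ (hW _ _ hw₀) _ (W.inv_mem hw₀)]
        convert h2 using 1
        simp only [map_mul, map_inv]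
        group
      have hone : (QuotientGroup.mk 1 : W ⧸ B) ∉ Set.range f := by
        rintro ⟨q, hq⟩
        obtain ⟨a, rfl⟩ := QuotientGroup.mk_surjective q
        rw [hf, QuotientGroup.eq, Subgroup.mem_subgroupOf] at hq
        simp only [Subgroup.coe_mul, Subgroup.coe_inv, mul_one] at hq
        apply hw₀'
        have h2 := W'.inv_mem (hW' a⁻¹ _ hq)
        convert h2 using 1
        simp only [map_inv]
        group
      haveI := Fintype.ofFinite (H ⧸ K)
      haveI := Fintype.ofFinite (W ⧸ B)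
      have hlt' := Fintype.card_lt_of_injective_of_notMem f hinj hone
      rw [← Nat.card_eq_fintype_card, ← Nat.card_eq_fintype_card] at hlt'
      calc (Nat.card (H ⧸ K) + 1) * Nat.card W' ≤ Nat.card (W ⧸ B) * Nat.card W' :=
            Nat.mul_le_mul_right _ hlt'
        _ = Nat.card W := by
          rw [Subgroup.card_eq_card_quotient_mul_card_subgroup B,
            Nat.card_congr (Subgroup.subgroupOfEquivOfLe hlt.le).toEquiv]
    refine ⟨A :: l, fun h => ?_, fun h hh w hw => ?_⟩
    · simp only [weight]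
      have hl := hl1 h
      have hw0 := weight_nonneg l h
      split_ifs with hex
      · -- `h` moves the top factor, so it fixes nothing outside `W'`
        have hK : h ∉ K := by
          obtain ⟨a, ⟨f, rfl⟩, hne'⟩ := hex
          intro hk
          apply hne'
          show f (QuotientGroup.mk h) = 1
          rw [(QuotientGroup.eq_one_iff h).2 hk, map_one]
        have heq : W ⊓ Subgroup.centralizer ({ι h} : Set X) = W' ⊓ Subgroup.centralizer ({ι h} : Set X) := by
          refine le_antisymm (fun z hz => ⟨hfix h hK z hz.1 ?_, hz.2⟩) (inf_le_inf_right _ hlt.le)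
          have e : δ h z = 1 := by
            simp only [δ]
            rw [← Subgroup.mem_centralizer_singleton_iff.1 hz.2]; group
          rw [e]; exact W'.one_mem
        rw [heq, mul_assoc]
        calc (1 + (Nat.card A : ℝ)) * (weight l h * Nat.card ↥(W' ⊓ Subgroup.centralizer ({ι h} : Set X)))
            ≤ (1 + (Nat.card A : ℝ)) * Nat.card W' := mul_le_mul_of_nonneg_left hl (by positivity)
          _ ≤ Nat.card W := by
            rw [add_comm]
            exact_mod_cast hq
      · -- in general the fixed points are bounded through the series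
        rw [one_mul]
        set C := Subgroup.centralizer ({ι h} : Set X)
        have hrel : Nat.card ↥(W ⊓ C) * Nat.card W' ≤ Nat.card ↥(W' ⊓ C) * Nat.card W := by
          have h1 : Nat.card ↥(W' ⊓ C) * (W' ⊓ C).relIndex (W ⊓ C) = Nat.card ↥(W ⊓ C) := by
            rw [← Subgroup.relIndex_bot_left, ← Subgroup.relIndex_bot_left]
            exact Subgroup.relIndex_mul_relIndex _ _ _ bot_le (inf_le_inf_right _ hlt.le)
          have h2 : Nat.card W' * W'.relIndex W = Nat.card W := by
            rw [← Subgroup.relIndex_bot_left, ← Subgroup.relIndex_bot_left]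
            exact Subgroup.relIndex_mul_relIndex _ _ _ bot_le hlt.le
          have h3 : (W' ⊓ C).relIndex (W ⊓ C) ≤ W'.relIndex W := by
            have e : (W' ⊓ C).relIndex (W ⊓ C) = W'.relIndex (W ⊓ C) := by
              rw [← Subgroup.inf_relIndex_right (W' ⊓ C), ← Subgroup.inf_relIndex_right W']
              congr 1
              rw [inf_assoc]
              congr 1
              exact inf_eq_right.2 inf_le_right
            rw [e]
            refine Subgroup.relIndex_le_of_le_right inf_le_left ?_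
            intro h0
            rw [h0, mul_zero] at h2
            exact Nat.card_pos.ne' h2.symm
          calc Nat.card ↥(W ⊓ C) * Nat.card W'
              = Nat.card ↥(W' ⊓ C) * (W' ⊓ C).relIndex (W ⊓ C) * Nat.card W' := by rw [h1]
            _ ≤ Nat.card ↥(W' ⊓ C) * W'.relIndex W * Nat.card W' :=
              Nat.mul_le_mul_right _ (Nat.mul_le_mul_left _ h3)
            _ = Nat.card ↥(W' ⊓ C) * Nat.card W := by rw [← h2]; ring
        have hpos : (0 : ℝ) < Nat.card W' := Nat.cast_pos.2 Nat.card_pos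
        refine le_of_mul_le_mul_right ?_ hpos
        calc weight l h * Nat.card ↥(W ⊓ C) * Nat.card W'
            = weight l h * ((Nat.card ↥(W ⊓ C) * Nat.card W' : ℕ) : ℝ) := by push_cast; ring
          _ ≤ weight l h * ((Nat.card ↥(W' ⊓ C) * Nat.card W : ℕ) : ℝ) :=
              mul_le_mul_of_nonneg_left (by exact_mod_cast hrel) hw0
          _ = (weight l h * Nat.card ↥(W' ⊓ C)) * Nat.card W := by push_cast; ring
          _ ≤ (Nat.card W' : ℝ) * Nat.card W := mul_le_mul_of_nonneg_right hl (by positivity)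
          _ = _ := mul_comm _ _
    · -- an element killed by all characters stabilises the series, hence centralises `W`
      have hK : h ∈ K := hAK h fun a ha => hh A List.mem_cons_self a ha
      have hfix' := hl2 h fun B hB a ha => hh B (List.mem_cons_of_mem _ hB) a ha
      set z := δ h w with hz
      have hzW : z ∈ W' := hK w hw
      have hzc : z * ι h = ι h * z := hfix' z hzW
      have hiter : ∀ j : ℕ, ι h ^ j * w * (ι h ^ j)⁻¹ = z ^ j * w := by
        intro j
        induction j with
        | zero => simp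
        | succ j ihj =>
          calc ι h ^ (j + 1) * w * (ι h ^ (j + 1))⁻¹
              = ι h * (ι h ^ j * w * (ι h ^ j)⁻¹) * (ι h)⁻¹ := by rw [pow_succ']; group
            _ = ι h * (z ^ j * w) * (ι h)⁻¹ := by rw [ihj]
            _ = z ^ j * (ι h * w * (ι h)⁻¹) := by
              rw [← mul_assoc, ← ((show Commute z (ι h) from hzc).pow_left j).eq]; group
            _ = z ^ (j + 1) * w := by
              rw [pow_succ, hz]; simp only [δ]; group
      have h1 := hiter (Nat.card H)
      rw [← map_pow, pow_card_eq_one', map_one, one_mul, inv_one, mul_one] at h1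
      have hzm : z ^ Nat.card H = 1 := right_eq_mul.1 h1
      have hzp : z ^ p = 1 := hexp z (hWV (hlt.le hzW))
      have hz1 : z = 1 := by
        have hg : Nat.gcd (Nat.card H) p = 1 := by
          rw [Nat.gcd_comm]
          exact (Fact.out : p.Prime).coprime_iff_not_dvd.2 hcop
        have := pow_gcd_eq_one.2 ⟨hzm, hzp⟩
        rwa [hg, pow_one] at this
      have h2 := hiter 1
      rw [pow_one, pow_one, hz1, one_mul] at h2
      exact (mul_inv_eq_iff_eq_mul.1 h2).symm

/-- **The abelian stabiliser criterion.** -/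
theorem class_number_le_of_abelian_stabilizer {p : ℕ} [Fact p.Prime] (V : Subgroup X) [V.Normal]
    (hexp : ∀ v ∈ V, v ^ p = 1) (hidx : ¬ p ∣ V.index)
    (hself : Subgroup.centralizer (V : Set X) = V) (G : Subgroup X)
    (hGV : Subgroup.IsComplement' V G) (w : X) (hv : w ∈ V)
    (hab : ∀ a ∈ G ⊓ Subgroup.centralizer ({w} : Set X),
      ∀ b ∈ G ⊓ Subgroup.centralizer ({w} : Set X), a * b = b * a) :
    Nat.card (ConjClasses X) ≤ Nat.card V := by
  classical
  have habV : ∀ a ∈ V, ∀ b ∈ V, a * b = b * a := fun a ha b hb => by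
    have h1 : b ∈ Subgroup.centralizer (V : Set X) := by rw [hself]; exact hb
    exact Subgroup.mem_centralizer_iff.1 h1 a ha
  have hVp : IsPGroup p V := fun a => ⟨1, Subtype.ext (by simpa using hexp a a.2)⟩
  have hG : ¬ p ∣ Nat.card G := by rwa [← hGV.symm.index_eq_card]
  have hcop : (Nat.card V).Coprime (Nat.card G) := by
    obtain ⟨e, he⟩ := hVp.exists_card_eq
    rw [he]
    exact Nat.Coprime.pow_left _ ((Fact.out : p.Prime).coprime_iff_not_dvd.2 hG)
  set S := G ⊓ Subgroup.centralizer ({w} : Set X) with hS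
  letI : CommGroup S := { (inferInstance : Group S) with
    mul_comm := fun a b => Subtype.ext (hab a a.2 b b.2) }
  letI : Fintype S := Fintype.ofFinite S
  have hSp : ¬ p ∣ Nat.card S := fun h => hG (h.trans (Subgroup.card_dvd_of_le inf_le_left))
  obtain ⟨l, hl1, hl2⟩ := exists_weights (S.subtype) hSp V hexp habV V le_rfl
    (fun h z hz => (inferInstance : V.Normal).conj_mem z hz h)
  have hgen : ⨆ A ∈ l, A = ⊤ := iSup_eq_top_of_separating l fun x hx => by
    apply Subtype.ext
    have h1 : (x : X) ∈ Subgroup.centralizer (V : Set X) :=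
      Subgroup.mem_centralizer_iff.2 fun z hz => hl2 x hx z hz
    rw [hself] at h1
    exact Subgroup.mem_bot.1 (hGV.disjoint.eq_bot ▸ Subgroup.mem_inf.2 ⟨h1, x.2.1⟩)
  obtain ⟨M, hM⟩ := CfsgLib.Blocks.exists_isPModular p Fact.out
  haveI := hM.2.1
  letI : Field (AlgInt ⧸ M) := Ideal.Quotient.field M
  refine class_number_le_of_weights V G habV hGV hcop hv S hS (fun _ h => weight l h)
    (fun k _ h => hl1 h) fun χ => ?_
  have hch := isCharacter_of_isIrr χ.2
  have hn : 0 < Nat.card X := Nat.card_pos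
  let η : ℕ → S → ℂ := fun k h => (χ : X → ℂ) (w ^ k * h)
  have hcyc : ∀ φ : S →* ℂˣ, IsCyc (Nat.card X)
      (fun k => (Nat.card S : ℂ)⁻¹ * ∑ h, η k h * (φ h⁻¹ : ℂ)) := fun φ =>
    (isCyc_classInner hch hn pow_card_eq_one' S inf_le_right
      (isCharacter_of_isIrr (isIrr_linChar φ))).congr fun k => by
        simp only [Cfsg.classInner, conj_linChar, η]
  let η₁ : S → AlgInt := fun h => ⟨(χ : X → ℂ) (w ^ 1 * h), character_isIntegral hch _⟩
  have hlow := weight_lower_bound hn (Ideal.Quotient.mk M) l η hcyc η₁ fun h => rfl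
  have hcard : Nat.card (S →* ℂˣ) = Nat.card S := natCard_linChar
  have hnorm : (Nat.card S : ℝ) ≤ diffNorm l (fun φ : S →* ℂˣ =>
      Ideal.Quotient.mk M (∑ h, η₁ h * linInt φ h⁻¹)) := by
    rw [← hcard]
    refine card_le_diffNorm l hgen _ ?_ ?_
    · rw [hcard, ← map_natCast (Ideal.Quotient.mk M), Ne, Ideal.Quotient.eq_zero_iff_mem,
        CfsgLib.Blocks.IsPModular.natCast_mem_iff hM]
      exact hSp
    · rw [← map_sum, Ne, Ideal.Quotient.eq_zero_iff_mem, Finset.sum_comm]
      intro hmem
      have hsum : ∑ h, ∑ φ : S →* ℂˣ, η₁ h * linInt φ h⁻¹ = (Nat.card S : AlgInt) * η₁ 1 := by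
        rw [Finset.sum_eq_single (1 : S) ?_ (fun h => absurd (Finset.mem_univ _) h)]
        · have h1 : ∀ φ : S →* ℂˣ, linInt φ (1 : S)⁻¹ = 1 := fun φ => Subtype.ext (by simp)
          rw [← hcard, Nat.card_eq_fintype_card]
          rw [Finset.sum_congr rfl fun φ _ => by rw [h1 φ, mul_one], Finset.sum_const, Finset.card_univ,
            nsmul_eq_mul]
        · intro h _ hh
          rw [← Finset.mul_sum]
          refine mul_eq_zero_of_right _ (Subtype.ext ?_)
          haveI : NeZero (Monoid.exponent S : ℂ) :=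
            ⟨Nat.cast_ne_zero.2 Monoid.exponent_ne_zero_of_finite⟩
          obtain ⟨f, hf⟩ := CommGroup.exists_apply_ne_one_of_hasEnoughRootsOfUnity S ℂ
            (a := h⁻¹) (inv_ne_one.2 hh)
          push_cast
          simp only [coe_linInt]
          by_contra h0
          have h1 : (f h⁻¹ : ℂ) * ∑ φ : S →* ℂˣ, (φ h⁻¹ : ℂ) = ∑ φ : S →* ℂˣ, (φ h⁻¹ : ℂ) := by
            rw [Finset.mul_sum]
            exact Fintype.sum_equiv (Equiv.mulLeft f) _ _ fun φ => by simp
          exact hf (Units.ext ((mul_eq_right₀ h0).1 h1))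
      rw [hsum] at hmem
      rcases (CfsgLib.Blocks.IsPModular.isPrime hM).mem_or_mem hmem with h1 | h1
      · exact hSp ((CfsgLib.Blocks.IsPModular.natCast_mem_iff hM _).1 h1)
      · exact value_not_mem hM V hVp habV hidx χ.2 hv (η₁ 1) (by simp [η₁]) h1
  refine le_trans ?_ hlow
  have hk : Nat.card (ConjClasses S) ≤ Nat.card S :=
    Nat.card_le_card_of_surjective _ ConjClasses.mk_surjective
  calc ((Nat.card X).totient : ℝ) * (Nat.card (ConjClasses S) * Nat.card S : ℕ)
      ≤ ((Nat.card X).totient : ℝ) * ((Nat.card S : ℝ) * Nat.card S) := by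
        refine mul_le_mul_of_nonneg_left ?_ (Nat.cast_nonneg _)
        exact_mod_cast Nat.mul_le_mul_right _ hk
    _ ≤ _ := by
        rw [← mul_assoc]
        exact mul_le_mul_of_nonneg_left hnorm (by positivity)

end CfsgLib.GaloisAverage
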